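import Groth.Agent.CompleteLib.Basic
import Mathlib.RingTheory.DiscreteValuationRing.Basic
import Mathlib.RingTheory.IntegralClosure.IntegralRestrict
import Mathlib.RingTheory.DedekindDomain.IntegralClosure
import Mathlib.FieldTheory.PrimitiveElement
import Mathlib.FieldTheory.Minpoly.IsIntegrallyClosed
import Mathlib.RingTheory.LocalRing.Quotient
import Mathlib.Algebra.Polynomial.Taylor
import Mathlib.LinearAlgebra.Dimension.Torsion.Finite
import Mathlib.RingTheory.AdicCompletion.Algebra

/-!
# Finite extensions of a complete DVR are determined by a finite level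
-/

set_option backward.isDefEq.respectTransparency false
set_option backward.isDefEq.respectTransparency.types false

universe u

open Polynomial

namespace KrasnerDvrLib

/-- A contracting self map of a complete ideal has a fixed point. -/
theorem exists_fixed {C : Type u} [CommRing C] (I : Ideal C) [IsAdicComplete I C] (F : C → C)
    (hF : ∀ y ∈ I, F y ∈ I) (hcon : ∀ n y y', y ∈ I → y' ∈ I → y - y' ∈ I ^ n → F y - F y' ∈ I ^ (n + 1)) :
    ∃ y ∈ I, F y = y := by
  let s : ℕ → C := fun n => F^[n] 0
  have hmem : ∀ n, s n ∈ I := fun n => by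
    induction n with
    | zero => exact zero_mem I
    | succ n ih => show F^[n + 1] 0 ∈ I; rw [Function.iterate_succ_apply']; exact hF _ ih
  have hs : ∀ n, s (n + 1) = F (s n) := fun n => Function.iterate_succ_apply' F n 0
  have hstep : ∀ n, s (n + 1) - s n ∈ I ^ n := fun n => by
    induction n with
    | zero => simp
    | succ n ih => rw [hs (n + 1), hs n]; exact hcon n _ _ (hs n ▸ hF _ (hmem n)) (hmem n) (hs n ▸ ih)
  have hcauchy : ∀ {m n}, m ≤ n → s m ≡ s n [SMOD (I ^ m • ⊤ : Submodule C C)] := by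
    intro m n hmn
    rw [SModEq.sub_mem, smul_eq_mul, Ideal.mul_top]
    induction n, hmn using Nat.le_induction with
    | base => simp
    | succ n hmn ih =>
      have h1 : s (n + 1) - s n ∈ I ^ m := Ideal.pow_le_pow_right hmn (hstep n)
      rw [show s m - s (n + 1) = (s m - s n) - (s (n + 1) - s n) by ring]
      exact sub_mem ih h1
  obtain ⟨L, hL⟩ := IsPrecomplete.prec (I := I) inferInstance hcauchy
  have hL' : ∀ n, s n - L ∈ I ^ n := fun n => by
    have := hL n
    rwa [SModEq.sub_mem, smul_eq_mul, Ideal.mul_top] at this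
  have hLI : L ∈ I := by
    have := sub_mem (hmem 1) (by simpa using hL' 1)
    simpa using this
  refine ⟨L, hLI, sub_eq_zero.1 (IsHausdorff.haus (I := I) inferInstance _ fun n => ?_)⟩
  rw [SModEq.sub_mem, smul_eq_mul, Ideal.mul_top, sub_zero]
  rw [show F L - L = -(F (s n) - F L) + (s (n + 1) - L) by rw [hs n]; ring]
  exact add_mem (neg_mem (Ideal.pow_le_pow_right n.le_succ (hcon n _ _ (hmem n) hLI (hL' n))))
    (Ideal.pow_le_pow_right n.le_succ (hL' (n + 1)))

/-- Hensel's lemma with a derivative dividing `π ^ e`. -/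
theorem exists_root {C : Type u} [CommRing C] (π : C) [IsAdicComplete (Ideal.span {π}) C] (f : Polynomial C) (c : C)
    (e m : ℕ) (hm : 2 * e < m) (w : C) (hw : f.derivative.eval c * w - π ^ e ∈ Ideal.span {π ^ (e + 1)})
    (hc : f.eval c ∈ Ideal.span {π ^ m}) : ∃ c', f.eval c' = 0 := by
  obtain ⟨z, hz⟩ := Ideal.mem_span_singleton'.1 hw
  obtain ⟨r, hr⟩ := Ideal.mem_span_singleton'.1 hc
  have hunit : IsUnit (1 + z * π) := by
    have := Ideal.mem_jacobson_bot.1
      (IsAdicComplete.le_jacobson_bot (Ideal.span {π}) (Ideal.mem_span_singleton_self π)) z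
    rwa [mul_comm, add_comm] at this
  obtain ⟨v, hv⟩ := hunit
  let d := f.derivative.eval c
  let w' := w * (↑v⁻¹ : C)
  have hdw : d * w' = π ^ e := by
    have h1 : d * w = π ^ e * (v : C) := by rw [hv, mul_add, mul_one, ← sub_eq_iff_eq_add', ← hz]; ring
    show d * (w * (↑v⁻¹ : C)) = _
    rw [← mul_assoc, h1, mul_assoc, Units.mul_inv, mul_one]
  let q := (taylor c f).divX.divX
  have hexp : ∀ t, f.eval (c + t) = f.eval c + d * t + t ^ 2 * q.eval t := fun t => by
    have h0 : f.eval (c + t) = (taylor c f).eval t := by rw [taylor_eval, add_comm]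
    rw [h0]
    conv_lhs => rw [← X_mul_divX_add (taylor c f), ← X_mul_divX_add (taylor c f).divX]
    rw [coeff_divX, taylor_coeff_zero, taylor_coeff_one]
    simp only [eval_add, eval_mul, eval_X, eval_C]
    ring
  obtain ⟨k, hk⟩ := Nat.exists_eq_add_of_lt hm
  let F : C → C := fun y => -(π ^ (k + 1) * r + w' ^ 2 * y ^ 2 * q.eval (π ^ e * w' * y))
  have h1 : ∀ y ∈ Ideal.span {π}, F y ∈ Ideal.span {π} := fun y hy =>
    neg_mem (add_mem (Ideal.mul_mem_right _ _ (Ideal.pow_mem_of_mem _ (Ideal.mem_span_singleton_self π) _ k.succ_pos))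
      (Ideal.mul_mem_right _ _ (Ideal.mul_mem_left _ _ (Ideal.pow_mem_of_mem _ hy 2 two_pos))))
  have h2 : ∀ n y y', y ∈ Ideal.span {π} → y' ∈ Ideal.span {π} → y - y' ∈ Ideal.span {π} ^ n →
      F y - F y' ∈ Ideal.span {π} ^ (n + 1) := by
    intro n y y' hy hy' hyy
    obtain ⟨s, hs⟩ := sub_dvd_eval_sub (π ^ e * w' * y) (π ^ e * w' * y') q
    have hid : F y - F y' = -((y - y') * ((y + y') * (w' ^ 2 * q.eval (π ^ e * w' * y)) + y' * (y' * w' ^ 3 * π ^ e * s))) := by
      simp only [F]
      linear_combination -(w' ^ 2 * y' ^ 2) * hs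
    rw [hid, pow_succ]
    exact neg_mem (Ideal.mul_mem_mul hyy (add_mem (Ideal.mul_mem_right _ _ (add_mem hy hy')) (Ideal.mul_mem_right _ _ hy')))
  obtain ⟨y, -, hFy⟩ := exists_fixed (Ideal.span {π}) F h1 h2
  refine ⟨c + π ^ e * w' * y, ?_⟩
  simp only [F] at hFy
  rw [hexp, ← hr, hk]
  linear_combination (π ^ e * y) * hdw - (π ^ (2 * e)) * hFy

section DVR

variable {A : Type u} [CommRing A] [IsDomain A] [IsDiscreteValuationRing A]

theorem injective_algebraMap_of_finite {ϖ : A} (hϖ : Irreducible ϖ) (C : Type u) [CommRing C] [IsDomain C]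
    [IsDiscreteValuationRing C] [Algebra A C] [Module.Finite A C] : Function.Injective (algebraMap A C) := by
  rw [injective_iff_map_eq_zero]
  intro a ha
  by_contra hne
  obtain ⟨n, v, rfl⟩ := IsDiscreteValuationRing.eq_unit_mul_pow_irreducible hne hϖ
  rw [map_mul, map_pow, mul_eq_zero, or_iff_right (v.isUnit.map _).ne_zero] at ha
  have hz : algebraMap A C ϖ = 0 := eq_zero_of_pow_eq_zero ha
  let 𝔪 := Ideal.span {ϖ}
  haveI : 𝔪.IsMaximal := by
    rw [show 𝔪 = IsLocalRing.maximalIdeal A from (Irreducible.maximalIdeal_eq hϖ).symm]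
    infer_instance
  letI := Ideal.Quotient.field 𝔪
  let φ : A ⧸ 𝔪 →+* C := Ideal.Quotient.lift 𝔪 (algebraMap A C) fun x hx => by
    obtain ⟨y, rfl⟩ := Ideal.mem_span_singleton'.1 hx
    rw [map_mul, hz, mul_zero]
  letI : Algebra (A ⧸ 𝔪) C := φ.toAlgebra
  haveI : IsScalarTower A (A ⧸ 𝔪) C := IsScalarTower.of_algebraMap_eq fun _ => rfl
  haveI : Module.Finite (A ⧸ 𝔪) C := Module.Finite.of_restrictScalars_finite A _ _
  haveI : IsArtinianRing C := isArtinian_of_tower (A ⧸ 𝔪) inferInstance
  exact IsDiscreteValuationRing.not_isField C (IsArtinianRing.isField_of_isDomain C)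

theorem exists_dvd_pow {ϖ : A} (hϖ : Irreducible ϖ) {B : Type u} [CommRing B] [IsDomain B] [Algebra A B]
    [Algebra.IsIntegral A B] {d : B} (hd : d ≠ 0) : ∃ e : ℕ, d ∣ algebraMap A B (ϖ ^ e) := by
  obtain ⟨a, ha, hdvd⟩ : ∃ a : A, a ≠ 0 ∧ d ∣ algebraMap A B a := by
    have hmem : Ideal.comap (algebraMap A B) (Ideal.span {d}) ≠ ⊥ :=
      Ideal.comap_ne_bot_of_integral_mem hd (Ideal.mem_span_singleton_self d) (Algebra.IsIntegral.isIntegral d)
    obtain ⟨a, ha, ha0⟩ := Submodule.exists_mem_ne_zero_of_ne_bot hmem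
    exact ⟨a, ha0, Ideal.mem_span_singleton.1 ha⟩
  obtain ⟨n, v, rfl⟩ := IsDiscreteValuationRing.eq_unit_mul_pow_irreducible ha hϖ
  refine ⟨n, ?_⟩
  rw [map_mul] at hdvd
  exact (IsUnit.dvd_mul_left (v.isUnit.map _)).1 hdvd

variable [IsAdicComplete (IsLocalRing.maximalIdeal A) A]

theorem isAdicComplete_span {ϖ : A} (hϖ : Irreducible ϖ) (C : Type u) [CommRing C] [Algebra A C] [Module.Finite A C] :
    IsAdicComplete (Ideal.span {algebraMap A C ϖ}) C := by
  have h := CompleteLib.isAdicComplete_of_finite (I := IsLocalRing.maximalIdeal A) (A := A) (M := C)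
  rw [show Ideal.span {algebraMap A C ϖ} = (IsLocalRing.maximalIdeal A).map (algebraMap A C) by
    rw [Irreducible.maximalIdeal_eq hϖ, Ideal.map_span, Set.image_singleton]]
  exact (IsAdicComplete.map_algebraMap_iff _ _).2 h

/-- Existence of the embedding and its bijectivity. -/
theorem exists_level {ϖ : A} (hϖ : Irreducible ϖ)
    (K : Type u) [Field K] [Algebra A K] [IsFractionRing A K]
    (L : Type u) [Field L] [Algebra K L] [Algebra A L] [IsScalarTower A K L]
    [FiniteDimensional K L] [Algebra.IsSeparable K L]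
    (B : Type u) [CommRing B] [Algebra A B] [Algebra B L] [IsScalarTower A B L]
    [IsIntegralClosure B A L] :
    ∃ m₀ : ℕ, 0 < m₀ ∧ ∀ (C : Type u) [CommRing C] [IsDomain C] [IsDiscreteValuationRing C]
      [Algebra A C] [Module.Finite A C] (m : ℕ), m₀ < m →
      Nonempty ((B ⧸ Ideal.span {algebraMap A B (ϖ ^ m)}) ≃ₐ[A] (C ⧸ Ideal.span {algebraMap A C (ϖ ^ m)})) →
      Nonempty (B ≃ₐ[A] C) := by
  classical
  have hBL : Function.Injective (algebraMap B L) := IsIntegralClosure.algebraMap_injective B A L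
  haveI : IsDomain B := hBL.isDomain _
  haveI : Algebra.IsIntegral A B := IsIntegralClosure.isIntegral_algebra A L
  haveI : Module.Finite A B := IsIntegralClosure.finite A K L B
  obtain ⟨α, hα⟩ := Field.exists_primitive_element K L
  obtain ⟨a, ha0, haint⟩ : ∃ a : A, a ≠ 0 ∧ IsIntegral A (a • α) := by
    haveI : Algebra.IsAlgebraic A L := (IsFractionRing.comap_isAlgebraic_iff (A := A) (K := K) (C := L)).2 inferInstance
    exact ⟨_, (Algebra.IsAlgebraic.isAlgebraic (R := A) α).exists_integral_multiple.choose_spec⟩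
  let θ : L := a • α
  have hθtop : IntermediateField.adjoin K {θ} = ⊤ := by
    refine top_le_iff.1 (hα ▸ IntermediateField.adjoin_simple_le_iff.2 ?_)
    have hne : algebraMap A K a ≠ 0 := by simpa using (IsFractionRing.injective A K).ne ha0
    have : α = (algebraMap A K a)⁻¹ • θ := by
      show α = (algebraMap A K a)⁻¹ • a • α
      rw [← algebraMap_smul K a α, smul_smul, inv_mul_cancel₀ hne, one_smul]
    rw [this]
    exact IntermediateField.smul_mem _ (IntermediateField.mem_adjoin_simple_self K θ)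
  let θB : B := IsIntegralClosure.mk' B θ haint
  have hθB : algebraMap B L θB = θ := IsIntegralClosure.algebraMap_mk' B θ haint
  let f := minpoly A θB
  have hfB : aeval θB f = 0 := minpoly.aeval A θB
  have hfK : f.map (algebraMap A K) = minpoly K θ := by
    rw [minpoly.isIntegrallyClosed_eq_field_fractions' K haint]
    exact congrArg (Polynomial.map (algebraMap A K)) ((minpoly.algebraMap_eq hBL θB).symm.trans (congrArg (minpoly A) hθB))
  have hd : aeval θB f.derivative ≠ 0 := by
    intro h0
    have h1 : aeval θ (minpoly K θ).derivative ≠ 0 :=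
      (Algebra.IsSeparable.isSeparable K θ).aeval_derivative_ne_zero (minpoly.aeval K θ)
    rw [← hfK, derivative_map, aeval_map_algebraMap, ← hθB, aeval_algebraMap_apply, h0, map_zero] at h1
    exact h1 rfl
  obtain ⟨e, u₀, hu₀⟩ := exists_dvd_pow hϖ hd
  refine ⟨2 * e + 1, Nat.succ_pos _, fun C _ _ _ _ _ m hm ⟨η⟩ => ?_⟩
  have hinjC := injective_algebraMap_of_finite hϖ C
  haveI := isAdicComplete_span hϖ C
  obtain ⟨c, hc⟩ := Ideal.Quotient.mk_surjective (η (Ideal.Quotient.mk _ θB))
  obtain ⟨w, hw⟩ := Ideal.Quotient.mk_surjective (η (Ideal.Quotient.mk _ u₀))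
  have key : ∀ g : A[X], Ideal.Quotient.mk (Ideal.span {algebraMap A C (ϖ ^ m)}) (aeval c g) =
      η (Ideal.Quotient.mk _ (aeval θB g)) := fun g => by
    show Ideal.Quotient.mkₐ A _ (aeval c g) = η (Ideal.Quotient.mkₐ A _ (aeval θB g))
    rw [← aeval_algHom_apply, ← aeval_algHom_apply, ← aeval_algHom_apply]
    exact congrArg (fun z => aeval z g) hc
  obtain ⟨c', hc'⟩ := exists_root (algebraMap A C ϖ) (f.map (algebraMap A C)) c e m (by omega) w (by
    rw [derivative_map, eval_map_algebraMap, ← map_pow, ← map_pow]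
    refine (Ideal.span_singleton_le_span_singleton.2 (map_dvd _ (pow_dvd_pow ϖ (by omega : e + 1 ≤ m)))) ?_
    rw [← Ideal.Quotient.eq_zero_iff_mem, map_sub, map_mul, key, hw, ← map_mul, ← map_mul, ← hu₀,
      Ideal.Quotient.mk_algebraMap, AlgEquiv.commutes, Ideal.Quotient.mk_algebraMap, sub_self]) (by
    rw [eval_map_algebraMap, ← map_pow, ← Ideal.Quotient.eq_zero_iff_mem, key, hfB, map_zero, map_zero])
  rw [eval_map_algebraMap] at hc'
  let FC := FractionRing C
  have hinjF : Function.Injective (algebraMap A FC) := by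
    rw [IsScalarTower.algebraMap_eq A C FC]
    exact (IsFractionRing.injective C FC).comp hinjC
  letI : Algebra K FC := (IsFractionRing.lift hinjF : K →+* FC).toAlgebra
  haveI : IsScalarTower A K FC := IsScalarTower.of_algebraMap_eq fun x => (IsFractionRing.lift_algebraMap hinjF x).symm
  have hθint : IsIntegral K θ := Algebra.IsIntegral.isIntegral θ
  let pb : PowerBasis K L := (IntermediateField.adjoin.powerBasis hθint).map
    ((IntermediateField.equivOfEq hθtop).trans IntermediateField.topEquiv)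
  have hgen : pb.gen = θ := rfl
  let σ : L →ₐ[K] FC := pb.lift (algebraMap C FC c') (by
    rw [hgen, ← hfK, aeval_map_algebraMap, aeval_algebraMap_apply, hc', map_zero])
  have hσint : ∀ b : B, IsIntegral C (σ (algebraMap B L b)) := fun b =>
    (((IsIntegralClosure.isIntegral A L b).algebraMap (B := L)).map (σ.restrictScalars A)).tower_top
  choose ψ hψ using fun b => IsIntegrallyClosed.isIntegral_iff.1 (hσint b)
  have hinj' := IsFractionRing.injective C FC
  let Ψ : B →ₐ[A] C :=
    { toFun := ψ
      map_one' := hinj' (by rw [hψ]; simp)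
      map_mul' := fun x y => hinj' (by rw [hψ, map_mul, map_mul, map_mul, hψ, hψ])
      map_zero' := hinj' (by rw [hψ]; simp)
      map_add' := fun x y => hinj' (by rw [hψ, map_add, map_add, map_add, hψ, hψ])
      commutes' := fun x => hinj' (by
        rw [hψ, ← IsScalarTower.algebraMap_apply, IsScalarTower.algebraMap_apply A K L, AlgHom.commutes,
          ← IsScalarTower.algebraMap_apply, ← IsScalarTower.algebraMap_apply]) }
  have hΨ : ∀ b, algebraMap C FC (Ψ b) = σ (algebraMap B L b) := hψ
  have hΨi : Function.Injective Ψ := fun x y h => hBL (σ.toRingHom.injective (show σ _ = σ _ by rw [← hΨ, h, hΨ]))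
  haveI : Module.IsTorsionFree A B := Module.isTorsionFree_iff_algebraMap_injective.2 (by
    have : Function.Injective (algebraMap A L) := by
      rw [IsScalarTower.algebraMap_eq A K L]
      exact (algebraMap K L).injective.comp (IsFractionRing.injective A K)
    rw [IsScalarTower.algebraMap_eq A B L, RingHom.coe_comp] at this
    exact Function.Injective.of_comp this)
  haveI : Module.IsTorsionFree A C := Module.isTorsionFree_iff_algebraMap_injective.2 hinjC
  haveI : Module.Free A B := Module.free_of_finite_type_torsion_free'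
  haveI : Module.Free A C := Module.free_of_finite_type_torsion_free'
  have hrank : Module.finrank A B = Module.finrank A C := by
    let 𝔪 := IsLocalRing.maximalIdeal A
    rw [← IsLocalRing.finrank_quotient_map (R := A) (S := B), ← IsLocalRing.finrank_quotient_map (R := A) (S := C)]
    have h𝔪 : ∀ (D : Type u) [CommRing D] [Algebra A D],
        𝔪.map (algebraMap A D) = Ideal.span {algebraMap A D ϖ} := fun D _ _ => by
      rw [show 𝔪 = Ideal.span {ϖ} from Irreducible.maximalIdeal_eq hϖ, Ideal.map_span, Set.image_singleton]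
    have hle : ∀ (D : Type u) [CommRing D] [Algebra A D],
        Ideal.span {algebraMap A D (ϖ ^ m)} ≤ 𝔪.map (algebraMap A D) := fun D _ _ => by
      rw [h𝔪, Ideal.span_singleton_le_span_singleton, map_pow]
      exact dvd_pow_self _ (by omega)
    let π₁ : C →ₐ[A] C ⧸ 𝔪.map (algebraMap A C) := Ideal.Quotient.mkₐ A _
    let g : (B ⧸ Ideal.span {algebraMap A B (ϖ ^ m)}) →ₐ[A] C ⧸ 𝔪.map (algebraMap A C) :=
      (Ideal.Quotient.factorₐ A (hle C)).comp η.toAlgHom
    let g' : (B ⧸ 𝔪.map (algebraMap A B)) →ₐ[A] C ⧸ 𝔪.map (algebraMap A C) :=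
      Ideal.Quotient.liftₐ _ (g.comp (Ideal.Quotient.mkₐ A _)) (fun x hx => by
        have hm' : 𝔪.map (algebraMap A B) ≤ RingHom.ker (g.comp (Ideal.Quotient.mkₐ A _)).toRingHom := by
          rw [h𝔪, Ideal.span_singleton_le_iff_mem, RingHom.mem_ker]
          show (g.comp (Ideal.Quotient.mkₐ A _)) (algebraMap A B ϖ) = 0
          rw [AlgHom.commutes, IsScalarTower.algebraMap_apply A C, Ideal.Quotient.algebraMap_eq,
            Ideal.Quotient.eq_zero_iff_mem, h𝔪]
          exact Ideal.mem_span_singleton_self _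
        exact hm' hx)
    have hbij : Function.Bijective g' := by
      constructor
      · rw [injective_iff_map_eq_zero]
        intro x hx
        obtain ⟨x, rfl⟩ := Ideal.Quotient.mk_surjective x
        obtain ⟨y, hy⟩ := Ideal.Quotient.mk_surjective (η (Ideal.Quotient.mk _ x))
        have h1 : Ideal.Quotient.mk (𝔪.map (algebraMap A C)) y = 0 := by
          rw [← hx]
          show _ = Ideal.Quotient.factorₐ A (hle C) (η (Ideal.Quotient.mk _ x))
          rw [← hy]
          rfl
        rw [Ideal.Quotient.eq_zero_iff_mem, h𝔪, Ideal.mem_span_singleton'] at h1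
        obtain ⟨z, rfl⟩ := h1
        rw [map_mul, Ideal.Quotient.mk_algebraMap] at hy
        obtain ⟨z', hz'⟩ := Ideal.Quotient.mk_surjective (η.symm (Ideal.Quotient.mk _ z))
        have h2 : Ideal.Quotient.mk (Ideal.span {algebraMap A B (ϖ ^ m)}) (x - z' * algebraMap A B ϖ) = 0 := by
          apply η.injective
          rw [map_sub, map_sub, map_mul, map_mul, hz', AlgEquiv.apply_symm_apply, Ideal.Quotient.mk_algebraMap,
            AlgEquiv.commutes, ← hy, sub_self, map_zero]
        rw [Ideal.Quotient.eq_zero_iff_mem] at h2 ⊢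
        have h4 : z' * algebraMap A B ϖ ∈ 𝔪.map (algebraMap A B) := by
          rw [h𝔪]; exact Ideal.mul_mem_left _ _ (Ideal.mem_span_singleton_self _)
        simpa using add_mem (hle B h2) h4
      · intro y
        obtain ⟨y, rfl⟩ := Ideal.Quotient.mk_surjective y
        obtain ⟨x, hx⟩ := Ideal.Quotient.mk_surjective (η.symm (Ideal.Quotient.mk _ y))
        refine ⟨Ideal.Quotient.mk _ x, ?_⟩
        show Ideal.Quotient.factorₐ A (hle C) (η (Ideal.Quotient.mk _ x)) = _
        rw [hx, AlgEquiv.apply_symm_apply]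
        rfl
    exact LinearEquiv.finrank_eq ((LinearEquiv.ofBijective g'.toLinearMap hbij).extendScalarsOfSurjective
      (S := A ⧸ 𝔪) Ideal.Quotient.mk_surjective)
  refine ⟨AlgEquiv.ofBijective Ψ ⟨hΨi, fun γ => ?_⟩⟩
  let N := LinearMap.range Ψ.toLinearMap
  have hN : Module.finrank A (C ⧸ N) = 0 := by
    have h1 := Submodule.finrank_quotient_add_finrank N
    have h2 : Module.finrank A N = Module.finrank A B := LinearMap.finrank_range_of_inj hΨi
    omega
  obtain ⟨⟨t, ht⟩, htγ⟩ := (Module.finrank_eq_zero_iff_isTorsion.1 hN) (x := Submodule.Quotient.mk γ)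
  obtain ⟨b, hb⟩ := (Submodule.Quotient.mk_eq_zero N).1 (show Submodule.Quotient.mk (t • γ) = (0 : C ⧸ N) from htγ)
  have ht0 : t ≠ 0 := nonZeroDivisors.ne_zero ht
  have htK : algebraMap A K t ≠ 0 := by simpa using (IsFractionRing.injective A K).ne ht0
  let x : L := (algebraMap A K t)⁻¹ • algebraMap B L b
  have hσx : σ x = algebraMap C FC γ := by
    show σ ((algebraMap A K t)⁻¹ • algebraMap B L b) = _
    rw [map_smul, ← hΨ, show Ψ b = t • γ from hb, Algebra.smul_def t γ, map_mul, ← IsScalarTower.algebraMap_apply,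
      IsScalarTower.algebraMap_apply A K FC, ← Algebra.smul_def, smul_smul, inv_mul_cancel₀ htK, one_smul]
  have hxint : IsIntegral A x :=
    (isIntegral_algHom_iff (σ.restrictScalars A) σ.injective).1 (by
      show IsIntegral A (σ x)
      rw [hσx]
      exact (IsIntegral.of_finite A γ).algebraMap)
  refine ⟨IsIntegralClosure.mk' B x hxint, hinj' ?_⟩
  rw [hΨ, IsIntegralClosure.algebraMap_mk', hσx]

end DVR

end KrasnerDvrLib
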